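import Mathlib.Algebra.Category.ModuleCat.Presheaf.Sheafification
import Mathlib.Algebra.Category.ModuleCat.Presheaf.Colimits
import Mathlib.Algebra.Category.ModuleCat.Sheaf.Colimits
import Mathlib.Algebra.Category.ModuleCat.Sheaf.Abelian
import Mathlib.Algebra.Category.ModuleCat.Sheaf.ChangeOfRings
import Mathlib.Algebra.Category.Grp.Colimits

/-! Restriction of scalars of sheaves of modules preserves colimits and finite limits. -/

set_option autoImplicit false

noncomputable section

universe u

open CategoryTheory Limits

namespace Groth.Agent.QCAlgMod72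

variable {C : Type u} [SmallCategory C] {J : GrothendieckTopology C}
  [HasSheafify J AddCommGrpCat.{u}] [J.WEqualsLocallyBijective AddCommGrpCat.{u}]

theorem preservesColimitsOfShape_toSheaf (R : Sheaf J RingCat.{u}) (K : Type u) [SmallCategory K] :
    PreservesColimitsOfShape K (SheafOfModules.toSheaf.{u} R) where
  preservesColimit {D} := by
    let adj := PresheafOfModules.sheafificationAdjunction.{u} (𝟙 R.obj)
    let sh := PresheafOfModules.sheafification.{u} (𝟙 R.obj)
    let G := SheafOfModules.forget R ⋙ PresheafOfModules.restrictScalars (𝟙 R.obj)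
    have : PreservesColimitsOfShape K sh := adj.leftAdjoint_preservesColimits.preservesColimitsOfShape
    have : PreservesColimitsOfShape K (sh ⋙ SheafOfModules.toSheaf R) :=
      preservesColimitsOfShape_of_natIso (PresheafOfModules.sheafificationCompToSheaf (𝟙 R.obj)).symm
    let t := colimit.cocone (D ⋙ G)
    let ht : IsColimit t := colimit.isColimit _
    have h1 : PreservesColimit ((D ⋙ G) ⋙ sh) (SheafOfModules.toSheaf R) :=
      preservesColimit_of_preserves_colimit_cocone (isColimitOfPreserves sh ht)
        (isColimitOfPreserves (sh ⋙ SheafOfModules.toSheaf R) ht)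
    have hc : IsIso adj.counit := inferInstance
    exact preservesColimit_of_iso_diagram (K₁ := (D ⋙ G) ⋙ sh) _
      (Functor.associator _ _ _ ≪≫ Functor.isoWhiskerLeft D (asIso adj.counit) ≪≫ D.rightUnitor)

variable {R R' : Sheaf J RingCat.{u}} (α : R ⟶ R')

/-- Restriction of scalars does not change the abelian sheaf. -/
def restrictScalarsCompToSheaf :
    SheafOfModules.restrictScalars α ⋙ SheafOfModules.toSheaf.{u} R ≅ SheafOfModules.toSheaf R' :=
  NatIso.ofComponents (fun _ => Iso.refl _)

instance faithful_restrictScalars : (SheafOfModules.restrictScalars.{u} α).Faithful :=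
  Functor.Faithful.of_comp_iso (restrictScalarsCompToSheaf α)

theorem preservesColimits_restrictScalars :
    PreservesColimitsOfSize.{u, u} (SheafOfModules.restrictScalars.{u} α) where
  preservesColimitsOfShape {K} _ := by
    have := preservesColimitsOfShape_toSheaf R K
    have := preservesColimitsOfShape_toSheaf R' K
    have : PreservesColimitsOfShape K
        (SheafOfModules.restrictScalars α ⋙ SheafOfModules.toSheaf.{u} R) :=
      preservesColimitsOfShape_of_natIso (restrictScalarsCompToSheaf α).symm
    have := reflectsColimitsOfShape_of_reflectsIsomorphisms (J := K) (G := SheafOfModules.toSheaf.{u} R)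
    exact preservesColimitsOfShape_of_reflects_of_preserves _ (SheafOfModules.toSheaf.{u} R)

theorem preservesFiniteLimits_restrictScalars :
    PreservesFiniteLimits (SheafOfModules.restrictScalars.{u} α) := by
  have : PreservesFiniteLimits
      (SheafOfModules.restrictScalars α ⋙ SheafOfModules.toSheaf.{u} R) :=
    preservesFiniteLimits_of_natIso (restrictScalarsCompToSheaf α).symm
  refine ⟨fun K _ _ => ?_⟩
  have := reflectsLimitsOfShape_of_reflectsIsomorphisms (J := K) (G := SheafOfModules.toSheaf.{u} R)
  exact preservesLimitsOfShape_of_reflects_of_preserves _ (SheafOfModules.toSheaf.{u} R)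

end Groth.Agent.QCAlgMod72
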